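import Groth.Prelude.Def_FlatCA
import Mathlib.RingTheory.Nakayama
import Mathlib.RingTheory.AdicCompletion.Basic
import Mathlib.RingTheory.FiniteType
import Mathlib.RingTheory.Finiteness.Nakayama
import Mathlib.LinearAlgebra.TensorProduct.Basic

/-!
Associated primes of `N ⊗ M` meet the closed fibre when multiplication by elements of `I S` has no
fixed vectors.
-/

namespace Groth.Agent.AssTensor

open TensorProduct

variable {R : Type*} [CommRing R]

/-- An endomorphism with image in `I F`, `I` in the radical, of a finite module fixes nothing after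
tensoring. -/
theorem eq_zero_of_fixed_finite {F M : Type*} [AddCommGroup F] [Module R F] [Module.Finite R F]
    [AddCommGroup M] [Module R M] {I : Ideal R} (hI : I ≤ Ideal.jacobson ⊥) (φ : F →ₗ[R] F)
    (hφ : ∀ x, φ x ∈ I • (⊤ : Submodule R F)) (z : F ⊗[R] M) (hz : φ.rTensor M z = z) : z = 0 := by
  have hsurj : Function.Surjective (LinearMap.id - φ : F →ₗ[R] F) := by
    rw [← LinearMap.range_eq_top, eq_top_iff]
    refine Submodule.le_of_le_smul_of_le_jacobson_bot Module.Finite.fg_top hI fun x _ => ?_
    rw [← sub_add_cancel x (φ x)]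
    exact Submodule.add_mem_sup ⟨x, rfl⟩ (hφ x)
  let e := LinearEquiv.ofBijective (LinearMap.id - φ : F →ₗ[R] F)
    ⟨OrzechProperty.injective_of_surjective_endomorphism _ hsurj, hsurj⟩
  refine (TensorProduct.congr e (LinearEquiv.refl R M)).injective ?_
  have he : ∀ w : F ⊗[R] M, TensorProduct.congr e (LinearEquiv.refl R M) w = w - φ.rTensor M w := by
    intro w
    induction w with
    | zero => simp
    | tmul x m =>
      rw [TensorProduct.congr_tmul, LinearMap.rTensor_tmul, LinearEquiv.refl_apply,
        show e x = x - φ x from rfl, sub_tmul]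
    | add a b ha hb => rw [map_add, ha, hb, map_add]; abel
  rw [map_zero, he, hz, sub_self]

/-- The same for a module built from finite ones: every element has a retraction onto a finite
module. -/
theorem eq_zero_of_fixed {N M : Type*} [AddCommGroup N] [Module R N] [AddCommGroup M] [Module R M]
    {I : Ideal R} (hI : I ≤ Ideal.jacobson ⊥)
    (hN : ∀ s : Finset N, ∃ (F : Submodule R N) (p : N →ₗ[R] F), Module.Finite R F ∧
      (∀ x : F, p x = x) ∧ (s : Set N) ⊆ F)
    (φ : N →ₗ[R] N) (hφ : ∀ x, φ x ∈ I • (⊤ : Submodule R N)) (z : N ⊗[R] M)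
    (hz : φ.rTensor M z = z) : z = 0 := by
  classical
  obtain ⟨S, hS⟩ := TensorProduct.exists_finset z
  obtain ⟨F, p, hF, hp, hsub⟩ := hN (S.image Prod.fst)
  have hfix : (F.subtype.comp p).rTensor M z = z := by
    rw [hS, map_sum]
    refine Finset.sum_congr rfl fun i hi => ?_
    rw [LinearMap.rTensor_tmul, LinearMap.comp_apply, Submodule.subtype_apply,
      hp ⟨i.1, hsub (Finset.mem_coe.mpr (Finset.mem_image_of_mem _ hi))⟩]
  have hzero : p.rTensor M z = 0 := by
    refine eq_zero_of_fixed_finite hI (p.comp (φ.comp F.subtype)) (fun x => ?_) _ ?_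
    · exact Submodule.smul_mono le_rfl le_top
        ((Submodule.map_smul'' I ⊤ p).le ⟨_, hφ x, rfl⟩)
    · rw [← LinearMap.rTensor_comp_apply, LinearMap.comp_assoc, LinearMap.comp_assoc,
        LinearMap.rTensor_comp_apply, LinearMap.rTensor_comp_apply]
      rw [hfix, hz]
  rw [← hfix, LinearMap.rTensor_comp_apply, hzero, map_zero]

variable {S : Type*} [CommRing S] [Algebra R S] {N M : Type*} [AddCommGroup N] [Module S N]
  [Module R N] [IsScalarTower R S N] [AddCommGroup M] [Module R M]

theorem smul_mem_of_mem_map {I : Ideal R} {f : S} (hf : f ∈ I.map (algebraMap R S)) (x : N) :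
    f • x ∈ I • (⊤ : Submodule R N) := by
  revert x
  refine Submodule.span_induction ?_ (fun x => by simp) (fun a b _ _ ha hb x => ?_)
    (fun a b _ hb x => ?_) hf
  · rintro _ ⟨r, hr, rfl⟩ x
    rw [algebraMap_smul]
    exact Submodule.smul_mem_smul hr Submodule.mem_top
  · rw [add_smul]; exact add_mem (ha x) (hb x)
  · rw [smul_eq_mul, mul_comm, mul_smul]; exact hb _

/-- If no nonzero element is fixed by an element of `I S`, associated primes meet `V(I S)`. -/
theorem sup_map_ne_top {I : Ideal R} {q : Ideal S} [q.IsPrime]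
    (hfix : ∀ f ∈ I.map (algebraMap R S), ∀ z : N ⊗[R] M, f • z = z → z = 0)
    (hq : ∃ z : N ⊗[R] M, q = (Submodule.span S {z}).annihilator) :
    q ⊔ I.map (algebraMap R S) ≠ ⊤ := by
  intro h
  obtain ⟨z, hz⟩ := hq
  obtain ⟨a, ha, f, hf, haf⟩ := Submodule.mem_sup.mp (h ▸ Submodule.mem_top : (1 : S) ∈ q ⊔ _)
  have haz : a • z = 0 := (Submodule.mem_annihilator_span_singleton _ _).mp (hz ▸ ha)
  have hzz : z = 0 := hfix f hf z (by
    conv_rhs => rw [← one_smul S z, ← haf, add_smul, haz, zero_add])
  refine Ideal.IsPrime.ne_top ‹_› ?_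
  rw [hz, Ideal.eq_top_iff_one, Submodule.mem_annihilator_span_singleton, hzz, smul_zero]

end Groth.Agent.AssTensor

namespace Groth.Agent.AssTensor

open TensorProduct

variable {R S N M : Type*} [CommRing R] [CommRing S] [Algebra R S] [AddCommGroup N] [Module S N]
  [Module R N] [IsScalarTower R S N] [AddCommGroup M] [Module R M]

/-- Multiplication by `f : S` as an `R`-linear map. -/
noncomputable def mulBy (f : S) : N →ₗ[R] N := ((LinearMap.lsmul S N) f).restrictScalars R

theorem rTensor_mulBy (f : S) (z : N ⊗[R] M) : (mulBy f : N →ₗ[R] N).rTensor M z = f • z := by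
  induction z with
  | zero => simp
  | tmul n m => rw [LinearMap.rTensor_tmul, TensorProduct.smul_tmul']; rfl
  | add a b ha hb => rw [map_add, ha, hb, smul_add]

theorem fixed_eq_zero_of_adicComplete {I : Ideal R} [IsAdicComplete I N] {f : S}
    (hf : f ∈ I.map (algebraMap R S)) (z : N ⊗[R] M) (hz : f • z = z) : z = 0 := by
  have hpow : ∀ (n : ℕ) (y : N), f ^ n • y ∈ I ^ n • (⊤ : Submodule R N) := fun n y => by
    refine smul_mem_of_mem_map ?_ y
    rw [Ideal.map_pow]
    exact Ideal.pow_mem_pow hf n
  let ψ : N →ₗ[R] N := LinearMap.id - mulBy f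
  have hψ : ∀ x, ψ x = x - f • x := fun x => rfl
  have hinj : Function.Injective ψ := by
    rw [injective_iff_map_eq_zero]
    intro x hx
    rw [hψ, sub_eq_zero] at hx
    refine IsHausdorff.haus (I := I) inferInstance x fun n => ?_
    rw [SModEq.zero]
    have : f ^ n • x = x := by
      induction n with
      | zero => simp
      | succ n ih => rw [pow_succ, mul_smul, ← hx, ih]
    rw [← this]; exact hpow n x
  have hsurj : Function.Surjective ψ := by
    intro y
    obtain ⟨x, hx⟩ := IsPrecomplete.prec (I := I) (M := N) inferInstance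
      (f := fun n => ∑ i ∈ Finset.range n, f ^ i • y) (fun {m n} hmn => by
        rw [SModEq.sub_mem, ← Finset.sum_range_add_sum_Ico _ hmn, sub_add_cancel_left]
        refine neg_mem (Submodule.sum_mem _ fun i hi => ?_)
        exact Submodule.smul_mono (Ideal.pow_le_pow_right (Finset.mem_Ico.mp hi).1) le_rfl (hpow i y))
    refine ⟨x, ?_⟩
    rw [← sub_eq_zero]
    refine IsHausdorff.haus (I := I) inferInstance _ fun n => ?_
    rw [SModEq.zero]
    have h1 := SModEq.sub_mem.mp (hx n)
    have h2 : ψ (∑ i ∈ Finset.range n, f ^ i • y) = y - f ^ n • y := by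
      rw [hψ, Finset.smul_sum, ← Finset.sum_sub_distrib]
      have := Finset.sum_range_sub' (fun i => f ^ i • y) n
      simp only [pow_zero, one_smul] at this
      rw [← this]
      exact Finset.sum_congr rfl fun i _ => by rw [← mul_smul, ← pow_succ']
    have h3 : ψ x - y = -(ψ ((∑ i ∈ Finset.range n, f ^ i • y) - x)) - f ^ n • y := by
      rw [map_sub, h2]; abel
    rw [h3]
    refine sub_mem (neg_mem ?_) (hpow n y)
    exact Submodule.smul_mono le_rfl le_top ((Submodule.map_smul'' (I ^ n) ⊤ ψ).le ⟨_, h1, rfl⟩)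
  let e := LinearEquiv.ofBijective ψ ⟨hinj, hsurj⟩
  refine (TensorProduct.congr e (LinearEquiv.refl R M)).injective ?_
  have he : ∀ w : N ⊗[R] M, TensorProduct.congr e (LinearEquiv.refl R M) w = w - f • w := by
    intro w
    induction w with
    | zero => simp
    | tmul x m =>
      rw [TensorProduct.congr_tmul, LinearEquiv.refl_apply, show e x = x - f • x from rfl, sub_tmul,
        TensorProduct.smul_tmul']
    | add a b ha hb => rw [map_add, ha, hb, smul_add]; abel
  rw [map_zero, he, hz, sub_self]

theorem fixed_eq_zero_of_projective [Module.Projective R N] {I : Ideal R}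
    (hI : I ≤ Ideal.jacobson ⊥) {f : S} (hf : f ∈ I.map (algebraMap R S)) (z : N ⊗[R] M)
    (hz : f • z = z) : z = 0 := by
  classical
  obtain ⟨s, hs⟩ := Module.projective_def.mp (inferInstance : Module.Projective R N)
  let r : (N →₀ R) →ₗ[R] N := Finsupp.linearCombination R id
  have hrs : ∀ x, r (s x) = x := hs
  have hN : ∀ T : Finset (N →₀ R), ∃ (F : Submodule R (N →₀ R)) (p : (N →₀ R) →ₗ[R] F),
      Module.Finite R F ∧ (∀ x : F, p x = x) ∧ (T : Set (N →₀ R)) ⊆ F := by
    intro T
    let U : Finset N := T.biUnion Finsupp.support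
    refine ⟨Finsupp.supported R R (U : Set N), Finsupp.restrictDom R R (U : Set N),
      Module.Finite.equiv (Finsupp.supportedEquivFinsupp (U : Set N)).symm, fun x => ?_, fun x hx => ?_⟩
    · exact LinearMap.congr_fun (Finsupp.restrictDom_comp_subtype (U : Set N)) x
    · rw [SetLike.mem_coe, Finsupp.mem_supported]
      exact Finset.coe_subset.mpr (Finset.subset_biUnion_of_mem _ hx)
  have h0 : s.rTensor M z = 0 := by
    refine eq_zero_of_fixed hI hN (s.comp ((mulBy f).comp r)) (fun x => ?_) _ ?_
    · exact Submodule.smul_mono le_rfl le_top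
        ((Submodule.map_smul'' I ⊤ s).le ⟨_, smul_mem_of_mem_map hf (r x), rfl⟩)
    · rw [← LinearMap.rTensor_comp_apply, LinearMap.comp_assoc, LinearMap.comp_assoc,
        show r.comp s = LinearMap.id from LinearMap.ext hrs, LinearMap.comp_id,
        LinearMap.rTensor_comp_apply, rTensor_mulBy, hz]
  have := congrArg (r.rTensor M) h0
  rwa [← LinearMap.rTensor_comp_apply, show r.comp s = LinearMap.id from LinearMap.ext hrs,
    LinearMap.rTensor_id, LinearMap.id_apply, map_zero] at this

theorem fixed_eq_zero_of_internal {ι : Type*} (F : ι → Submodule R N) [DecidableEq ι]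
    (hF : DirectSum.IsInternal F) (hfin : ∀ i, Module.Finite R (F i)) {I : Ideal R}
    (hI : I ≤ Ideal.jacobson ⊥) {f : S} (hf : f ∈ I.map (algebraMap R S)) (z : N ⊗[R] M)
    (hz : f • z = z) : z = 0 := by
  classical
  refine eq_zero_of_fixed hI (fun T => ?_) (mulBy f) (fun x => smul_mem_of_mem_map hf x) z
    (by rw [rTensor_mulBy, hz])
  let e := LinearEquiv.ofBijective (DirectSum.coeLinearMap F) hF
  let U : Finset ι := T.biUnion fun x => DFinsupp.support (e.symm x)
  let G : Submodule R N := ⨆ i ∈ U, F i
  let q : N →ₗ[R] N := (DirectSum.coeLinearMap F).comp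
    ((DFinsupp.filterLinearMap R (fun i => ↥(F i)) (fun i => i ∈ U)).comp e.symm.toLinearMap)
  have hq : ∀ i (x : F i), q x = if i ∈ U then (x : N) else 0 := by
    intro i x
    have : e.symm (x : N) = DirectSum.of (fun i => ↥(F i)) i x := by
      rw [LinearEquiv.symm_apply_eq]; exact (DirectSum.coeLinearMap_of F i x).symm
    show DirectSum.coeLinearMap F (DFinsupp.filter (fun i => i ∈ U) (e.symm (x : N))) = _
    rw [this]
    show DirectSum.coeLinearMap F (DFinsupp.filter (fun i => i ∈ U) (DFinsupp.single i x)) = _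
    rw [DFinsupp.filter_single]
    split_ifs with h
    · exact DirectSum.coeLinearMap_of F i x
    · exact map_zero _
  have hqG : ∀ x, q x ∈ G := by
    intro x
    have hx : x ∈ ⨆ i, F i := by rw [hF.submodule_iSup_eq_top]; trivial
    induction hx using Submodule.iSup_induction' with
    | mem i y hy =>
      rw [hq i ⟨y, hy⟩]
      split_ifs with h
      · exact Submodule.mem_iSup_of_mem i (Submodule.mem_iSup_of_mem h hy)
      · exact zero_mem _
    | zero => rw [map_zero]; exact zero_mem _
    | add a b _ _ ha hb => rw [map_add]; exact add_mem ha hb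
  refine ⟨G, q.codRestrict G hqG, ?_, fun x => Subtype.ext ?_, fun x hx => ?_⟩
  · refine Module.Finite.iff_fg.mpr (Submodule.fg_biSup U F fun i _ => Module.Finite.iff_fg.mp (hfin i))
  · show q x = x
    have hx : (x : N) ∈ G := x.2
    have : G ≤ LinearMap.eqLocus q LinearMap.id := iSup₂_le fun i hi y hy => by
      show q y = y
      rw [hq i ⟨y, hy⟩, if_pos hi]
    exact this hx
  · have : x = DirectSum.coeLinearMap F (e.symm x) := (e.apply_symm_apply x).symm
    rw [SetLike.mem_coe, this]
    refine Submodule.mem_iSup_finset_iff_exists_sum _ _ |>.mpr ⟨fun i => e.symm x i, ?_⟩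
    rw [DirectSum.coeLinearMap_eq_dfinsuppSum, DFinsupp.sum]
    refine (Finset.sum_subset (Finset.subset_biUnion_of_mem (fun y => DFinsupp.support (e.symm y)) hx)
      fun i _ hi => ?_).symm
    have h0 : (e.symm x) i = 0 := DFinsupp.notMem_support_iff.mp hi
    show ((e.symm x) i : N) = 0
    rw [h0]
    exact Submodule.coe_zero

end Groth.Agent.AssTensor
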